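import Cfsg.Agent.O83.Invariants
import Cfsg.Agent.O83.Check.Perms
import Cfsg.Agent.AutPOmega.Triality.Theta
import Cfsg.Agent.AutPOmega.PlusQuot
import Cfsg.Agent.S5515

/-!
# The action of the outer automorphisms on the thirteen classes
-/

set_option autoImplicit false

namespace Cfsg.Agent.O83

open Matrix AutPOmega AutPOmega.Triality

/-- The three components of the test of a triple. -/
def relOK (S T G : List ℕ) : Bool := decide (∀ a b : Ix,
  toMat S *ᵥ omul (Pi.single a 1) (Pi.single b 1) =
    omul (fun k => toMat T k a) (fun k => toMat G k b))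

theorem vec_sum (v : Ix → ZMod 3) : v = ∑ a, v a • (Pi.single a 1 : Ix → ZMod 3) := pi_eq_sum_univ' v

theorem mulVec_single_one' (M : Matrix Ix Ix (ZMod 3)) (a : Ix) : M *ᵥ Pi.single a 1 = fun k => M k a := by
  funext k
  simp [Matrix.mulVec, dotProduct, Pi.single_apply]

theorem rel_of_relOK {s t g : List ℕ} (h : relOK (wordP s) (wordP t) (wordP g) = true) :
    (omToSim (wordO s), omToSim (wordO t), omToSim (wordO g)) ∈ Triality.Rel := by
  simp only [relOK, decide_eq_true_eq] at h
  intro x y
  show mat (wordO s) *ᵥ omul x y = omul (mat (wordO t) *ᵥ x) (mat (wordO g) *ᵥ y)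
  rw [mat_wordO, mat_wordO, mat_wordO]
  let L : (Ix → ZMod 3) →ₗ[ZMod 3] (Ix → ZMod 3) →ₗ[ZMod 3] (Ix → ZMod 3) :=
    LinearMap.mk₂ _ omul add_omul smul_omul omul_add omul_smul
  have hL : ∀ x y, L x y = omul x y := fun _ _ => rfl
  rw [← hL, ← hL, vec_sum x, vec_sum y]
  simp only [map_sum, map_smul, Matrix.mulVec_sum, Matrix.mulVec_smul, LinearMap.sum_apply, LinearMap.smul_apply,
    mulVec_single_one', hL, h]

theorem relTh_all : ∀ i : Fin 13,
    relOK (wordP (cw (repsC.getD i 0))) (wordP (imgTh.getD i [])) (wordP (thirdTh.getD i [])) = true := by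
  decide +kernel

theorem theta_rP (i : Fin 13) : theta (rP i) = mkO (wordO (imgTh.getD i [])) :=
  theta_mkO (rel_of_relOK (relTh_all i))

theorem omToSim_injective : Function.Injective (omToSim (Q := q8)) := fun x y h =>
  ext_mat (congrArg (fun g : Geo.quadSimilarityGroup (F := ZMod 3) (⇑q8) => g.1.1) h)

theorem conjA_word {g : G8 (ZMod 3)} {P : List ℕ} (hP : IsP P) (hg : g.1.1 = toMat P) (s t : List ℕ)
    (h : mulP P (wordP s) = mulP (wordP t) P) : conjA g (mkO (wordO s)) = mkO (wordO t) := by
  rw [conjA_apply, Semi.aut_mkO]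
  refine congrArg mkO (omToSim_injective ?_)
  rw [omToSim_omAut, mul_inv_eq_iff_eq_mul]
  refine Subtype.ext (Units.ext ?_)
  show g.1.1 * mat (wordO s) = mat (wordO t) * g.1.1
  rw [hg, mat_wordO, mat_wordO, ← hP.toMat_mul (isP_wordP _), h, (isP_wordP _).toMat_mul hP]

/-- The exchange of the last pair. -/
def swapP : List ℕ := mkM fun i j => if j = (if i = 3 then 7 else if i = 7 then 3 else i) then 1 else 0

/-- The scaling of the first halves. -/
def diagP : List ℕ := mkM fun i j => if i = j then (if i < 4 then 2 else 1) else 0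

/-- The graph automorphism. -/
noncomputable def sgA : MulAut P8 := conjA (isoToSim (isoG swapP ⟨_, rfl⟩ (by decide +kernel)))

/-- The diagonal automorphism. -/
noncomputable def dgA : MulAut P8 := conjA (dSim (m := 4) (-1))

theorem sgA_rP (i : Fin 13) : sgA (rP i) = mkO (wordO (imgSg.getD i [])) := by
  refine conjA_word (P := swapP) ⟨_, rfl⟩ rfl _ _ ?_
  have : ∀ i : Fin 13, (mulP swapP (wordP (cw (repsC.getD i 0))) == mulP (wordP (imgSg.getD i [])) swapP) = true := by
    decide +kernel
  exact beq_iff_eq.1 (this i)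

theorem dgA_rP (i : Fin 13) : dgA (rP i) = mkO (wordO (imgDg.getD i [])) := by
  refine conjA_word (P := diagP) ⟨_, rfl⟩ ?_ _ _ ?_
  · rw [dSim_val]
    refine Matrix.ext fun a b => ?_
    rw [Units.val_neg, Units.val_one, Matrix.diagonal_apply]
    rcases a with a | a <;> rcases b with b | b <;> revert a b <;> decide +kernel
  · have : ∀ i : Fin 13,
        (mulP diagP (wordP (cw (repsC.getD i 0))) == mulP (wordP (imgDg.getD i [])) diagP) = true := by
      decide +kernel
    exact beq_iff_eq.1 (this i)

theorem rel_of_permOK {cert perm : List ℕ} {img : List (List ℕ)}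
    (h : (List.range 13).all (permOK cert perm img) = true) (i : Fin 13) :
    ∃ j : Fin 13, (j : ℕ) = perm.getD i 13 ∧ Rel (mkO (wordO (img.getD i []))) (rP j) := by
  have h' := (List.all_eq_true.1 h) i (List.mem_range.2 i.2)
  simp only [permOK, Bool.and_eq_true, decide_eq_true_eq, beq_iff_eq] at h'
  exact ⟨⟨_, h'.1.1⟩, rfl, Rel.map ⟨_, of_certOK rfl h'.2 (repO_cube ⟨_, h'.1.1⟩)⟩ mkO⟩

/-- The permutation of the classes by triality. -/
def pT (i : Fin 13) : Fin 13 := Fin.ofNat 13 (permTh.getD i 0)

/-- The permutation of the classes by the graph automorphism. -/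
def pS (i : Fin 13) : Fin 13 := Fin.ofNat 13 (permSg.getD i 0)

/-- The permutation of the classes by the diagonal automorphism. -/
def pD (i : Fin 13) : Fin 13 := Fin.ofNat 13 (permDg.getD i 0)

theorem rel_theta (i : Fin 13) : Rel (theta (rP i)) (rP (pT i)) := by
  obtain ⟨j, hj, h⟩ := rel_of_permOK permTh_ok i
  rw [theta_rP]
  convert h
  have : ∀ i : Fin 13, (pT i : ℕ) = permTh.getD i 13 := by decide +kernel
  exact Fin.ext ((this i).trans hj.symm)

theorem rel_sg (i : Fin 13) : Rel (sgA (rP i)) (rP (pS i)) := by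
  obtain ⟨j, hj, h⟩ := rel_of_permOK permSg_ok i
  rw [sgA_rP]
  convert h
  have : ∀ i : Fin 13, (pS i : ℕ) = permSg.getD i 13 := by decide +kernel
  exact Fin.ext ((this i).trans hj.symm)

theorem rel_dg (i : Fin 13) : Rel (dgA (rP i)) (rP (pD i)) := by
  obtain ⟨j, hj, h⟩ := rel_of_permOK permDg_ok i
  rw [dgA_rP]
  convert h
  have : ∀ i : Fin 13, (pD i : ℕ) = permDg.getD i 13 := by decide +kernel
  exact Fin.ext ((this i).trans hj.symm)

theorem rel_step {α : MulAut P8} {p : Fin 13 → Fin 13} (hp : ∀ i, Rel (α (rP i)) (rP (p i))) {i j : Fin 13}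
    (h : Rel (rP i) (rP j)) : Rel (rP (p i)) (rP (p j)) :=
  (hp i).symm.trans ((h.map α.toMonoidHom).trans (hp j))

/-- The representatives are pairwise unrelated. -/
theorem rP_injective {i j : Fin 13} (h : Rel (rP i) (rP j)) : i = j := by
  have h1 := fix_of_rel h
  have h2 := fix_of_rel (rel_step rel_theta h)
  have h3 := fix_of_rel (rel_step rel_theta (rel_step rel_sg h))
  have key : ∀ i j : Fin 13, fixT.getD i 0 = fixT.getD j 0 → fixT.getD (pT i) 0 = fixT.getD (pT j) 0 →
      fixT.getD (pT (pS i)) 0 = fixT.getD (pT (pS j)) 0 → i = j := by decide +kernel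
  exact key i j h1 h2 h3

theorem orderOf_aut (α : MulAut P8) (i : Fin 13) : orderOf (α (rP i)) = 3 := by
  rw [MulEquiv.orderOf_eq, orderOf_rP]

/-- The class of an image. -/
noncomputable def act (α : MulAut P8) (i : Fin 13) : Fin 13 := (exists_class (orderOf_aut α i)).choose

theorem act_spec (α : MulAut P8) (i : Fin 13) : Rel (α (rP i)) (rP (act α i)) :=
  (exists_class (orderOf_aut α i)).choose_spec

theorem act_eq {α : MulAut P8} {i j : Fin 13} (h : Rel (α (rP i)) (rP j)) : act α i = j :=
  rP_injective ((act_spec α i).symm.trans h)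

theorem act_mul (α β : MulAut P8) (i : Fin 13) : act (α * β) i = act α (act β i) :=
  act_eq (((act_spec β i).map α.toMonoidHom).trans (act_spec α _))

theorem act_one (i : Fin 13) : act 1 i = i := act_eq (Rel.refl _)

/-- The action of the automorphisms on the classes. -/
noncomputable def autPerm : MulAut P8 →* Equiv.Perm (Fin 13) where
  toFun α := ⟨act α, act α⁻¹, fun i => by rw [← act_mul, inv_mul_cancel, act_one],
    fun i => by rw [← act_mul, mul_inv_cancel, act_one]⟩
  map_one' := Equiv.ext act_one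
  map_mul' α β := Equiv.ext (act_mul α β)

/-- The action of the outer automorphisms. -/
noncomputable def outPerm : Cfsg.Out P8 →* Equiv.Perm (Fin 13) :=
  QuotientGroup.lift (Cfsg.Inn P8) autPerm (by
    rintro _ ⟨y, rfl⟩
    refine MonoidHom.mem_ker.2 (Equiv.ext fun i => act_eq ?_)
    exact Rel.symm ⟨y, Or.inl rfl⟩)

/-- The permutation given by a function. -/
noncomputable def gens3 : Fin 3 → MulAut P8 := ![theta, sgA, dgA]

/-- The functions of the three generators. -/
def gfun : Fin 3 → Fin 13 → Fin 13 := ![pT, pS, pD]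

theorem autPerm_gens (k : Fin 3) (i : Fin 13) : autPerm (gens3 k) i = gfun k i := by
  fin_cases k
  exacts [act_eq (rel_theta i), act_eq (rel_sg i), act_eq (rel_dg i)]

/-- The words of the twenty-four elements. -/
def words24 : List (List (Fin 3)) := [[], [0], [1], [2], [1, 0], [2, 0], [0, 1], [2, 1], [0, 2], [1, 2], [0, 1, 0],
  [2, 1, 0], [0, 2, 0], [1, 2, 0], [2, 0, 1], [0, 2, 1], [1, 2, 1], [1, 0, 2], [2, 0, 2], [0, 1, 2], [2, 1, 2],
  [2, 0, 1, 0], [0, 2, 1, 0], [0, 1, 2, 0]]

theorem autPerm_word (w : List (Fin 3)) (i : Fin 13) :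
    autPerm (w.map gens3).prod i = w.foldr gfun i := by
  induction w with
  | nil => simp
  | cons k w ih =>
    rw [List.map_cons, List.prod_cons, map_mul, Equiv.Perm.mul_apply, ih, autPerm_gens, List.foldr_cons]

theorem outPerm_injective : Function.Injective outPerm := by
  obtain ⟨o⟩ : Nonempty (Cfsg.Out P8 ≃* Equiv.Perm (Fin 4)) := S5515.out_iso
  haveI : Finite (Cfsg.Out P8) := Finite.of_equiv _ o.symm.toEquiv
  have h24 : Nat.card (Cfsg.Out P8) = 24 := by
    rw [Nat.card_congr o.toEquiv, Nat.card_eq_fintype_card, Fintype.card_perm, Fintype.card_fin]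
    rfl
  have hle : 24 ≤ Nat.card outPerm.range := by
    let f : Fin 24 → outPerm.range := fun n =>
      ⟨outPerm (QuotientGroup.mk' _ ((words24.getD n []).map gens3).prod), ⟨_, rfl⟩⟩
    have hf : Function.Injective f := fun m n e => by
      have e' : ∀ i, (words24.getD m []).foldr gfun i = (words24.getD n []).foldr gfun i := fun i => by
        rw [← autPerm_word, ← autPerm_word]
        exact Equiv.Perm.congr_fun (congrArg Subtype.val e) i
      have key : ∀ m n : Fin 24, (∀ i, (words24.getD m []).foldr gfun i = (words24.getD n []).foldr gfun i) →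
          m = n := by decide +kernel
      exact key m n e'
    exact (Nat.card_fin 24).symm.trans_le (Nat.card_le_card_of_injective f hf)
  rw [← MonoidHom.ker_eq_bot_iff, ← Subgroup.card_eq_one]
  have h := outPerm.ker.card_eq_card_quotient_mul_card_subgroup
  rw [Nat.card_congr (QuotientGroup.quotientKerEquivRange outPerm).toEquiv, h24] at h
  have h1 : 0 < Nat.card outPerm.ker := Nat.card_pos
  nlinarith

end Cfsg.Agent.O83
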