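import Cfsg.Agent.O83.Data

/-!
# The certificate checks
-/

set_option autoImplicit false

namespace Cfsg.Agent.O83

/-- A generator. -/
def gP (k : ℕ) : List ℕ := gensT.getD k oneP

/-- The product of a word. -/
def wordP (w : List ℕ) : List ℕ := w.foldr (fun k P => mulP (gP k) P) oneP

/-- The word of a code in six given roots. -/
def digWord (gs : List ℕ) (a : ℕ) : List ℕ :=
  (List.range 6).flatMap fun i => if a / 3 ^ i % 3 = 0 then [] else [gs.getD i 0 + (a / 3 ^ i % 3 - 1)]

/-- The word of a Levi code. -/
def la (a : ℕ) : List ℕ := digWord lgens a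

/-- The word of a code of the radical. -/
def qa (b : ℕ) : List ℕ := digWord qgens b

/-- The word of a code. -/
def cw (c : ℕ) : List ℕ := la (c % 729) ++ qa (c / 729)

/-- An entry of a table. -/
def lookT (T : List (List ℕ)) (k : ℕ) : ℕ := (T.getD (k / 27) []).getD (k % 27) 0

/-- The key of a matrix. -/
def keyP (P : List ℕ) (es : List (ℕ × ℕ)) : ℕ := es.foldr (fun e k => dg (P.getD e.1 0) e.2 + 3 * k) 0

/-- Read off a Levi element. -/
def readL (P : List ℕ) : ℕ := lookT tabL (keyP P lKey)

/-- Read off an element of the radical. -/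
def readQ (P : List ℕ) : ℕ := lookT tabQ (keyP P qKey)

/-- A word stored in a number. -/
def decW : ℕ → ℕ → List ℕ
  | 0, _ => []
  | f + 1, n => if n = 0 then [] else (n % 64 - 1) :: decW f (n / 64)

/-- The class of a certificate. -/
def cIdx (e : ℕ) : ℕ := (e % 32 - 1) / 2

/-- Whether a certificate inverts. -/
def cNeg (e : ℕ) : Bool := (e % 32 - 1) % 2 == 1

/-- The conjugating word of a certificate. -/
def cWord (e : ℕ) : List ℕ := decW 12 (e / 32)

/-- The check of a certificate. -/
def certOK (X R : List ℕ) (e : ℕ) : Bool :=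
  let H := wordP (cWord e)
  mulP H X == mulP (if cNeg e then mulP R R else R) H

/-- The cube. -/
def cubeP (P : List ℕ) : List ℕ := mulP P (mulP P P)

/-- The checks of a generator. -/
def genOK (k : ℕ) : Bool := wfP (gP k) && isoP (gP k) && (cubeP (gP k) == oneP)

/-- The checks of the six roots of a subgroup. -/
def rootsOK (gs : List ℕ) : Bool :=
  (List.range 6).all fun i => decide (gs.getD i 0 + 1 < 48) &&
    mulP (gP (gs.getD i 0)) (gP (gs.getD i 0)) == gP (gs.getD i 0 + 1)

/-- The subgroup checks of a Levi code. -/
def lCodeOK (a : ℕ) : Bool :=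
  let X := wordP (la a)
  (readL X == a) && (List.range 6).all fun i =>
    let Y := mulP X (gP (lgens.getD i 0))
    decide (readL Y < 729) && Y == wordP (la (readL Y))

/-- The subgroup checks of a code of the radical. -/
def qCodeOK (b : ℕ) : Bool :=
  let X := wordP (qa b)
  (readQ X == b) && (List.range 6).all fun i =>
    let Y := mulP X (gP (qgens.getD i 0))
    decide (readQ Y < 729) && Y == wordP (qa (readQ Y))

/-- The Levi part meets the radical trivially. -/
def disjOK (a : ℕ) : Bool :=
  let X := wordP (la a)
  a == 0 || !(wordP (qa (readQ X)) == X)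

/-- The Levi roots normalise the radical. -/
def normOK : Bool :=
  levs.all fun k => decide (k < 48) && (List.range 6).all fun i =>
    let Y := mulP (gP k) (mulP (gP (qgens.getD i 0)) (mulP (gP k) (gP k)))
    decide (readQ Y < 729) && Y == wordP (qa (readQ Y))

/-- The conjugacy check of a Levi code. -/
def certLOK (a : ℕ) : Bool :=
  let X := wordP (la a)
  let e := lookT certL a
  a == 0 || !(cubeP X == oneP) ||
    ((cWord e).all (fun k => levs.contains k) && decide (cIdx e < 4) &&
      certOK X (wordP (la (repsL.getD (cIdx e) 0))) e)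

/-- The conjugacy check of an element of a coset of the radical. -/
def certXOK (j b : ℕ) : Bool :=
  let X := mulP (wordP (la (cosetA.getD j 0))) (wordP (qa b))
  let e := lookT certX (729 * j + b)
  (j == 0 && b == 0) || !(cubeP X == oneP) ||
    (decide (cIdx e < 13) && certOK X (wordP (cw (repsC.getD (cIdx e) 0))) e)

/-- The checks of a block of Levi codes. -/
def blockLOK (c : ℕ) : Bool := (List.range 243).all fun j => lCodeOK (243 * c + j)

/-- The checks of a block of codes of the radical. -/
def blockQOK (c : ℕ) : Bool := (List.range 243).all fun j => qCodeOK (243 * c + j) && disjOK (243 * c + j)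

/-- The conjugacy checks of a block of Levi codes. -/
def blockCertLOK (c : ℕ) : Bool := (List.range 243).all fun j => certLOK (243 * c + j)

/-- The conjugacy checks of a block of a coset. -/
def blockCertXOK (j c : ℕ) : Bool := (List.range 243).all fun b => certXOK j (243 * c + b)

/-- The check of an image of a representative. -/
def permOK (cert perm : List ℕ) (img : List (List ℕ)) (i : ℕ) : Bool :=
  decide (perm.getD i 13 < 13) && (cIdx (cert.getD i 0) == perm.getD i 13) &&
    certOK (wordP (img.getD i [])) (wordP (cw (repsC.getD (perm.getD i 13) 0))) (cert.getD i 0)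

/-- The digit of a vector code. -/
def vd (j t : ℕ) : ℕ := j / 3 ^ t % 3

/-- The test of a row. -/
def rowFix (P : List ℕ) (j i : ℕ) : Bool :=
  (dg (P.getD i 0) 0 * vd j 0 + dg (P.getD i 0) 1 * vd j 1 + dg (P.getD i 0) 2 * vd j 2 +
    dg (P.getD i 0) 3 * vd j 3 + dg (P.getD i 0) 4 * vd j 4 + dg (P.getD i 0) 5 * vd j 5 +
    dg (P.getD i 0) 6 * vd j 6 + dg (P.getD i 0) 7 * vd j 7) % 3 == vd j i % 3

/-- The test of a vector code. -/
def fixB (P : List ℕ) (j : ℕ) : Bool :=
  ((vd j 0 * vd j 4 + (vd j 1 * vd j 5 + (vd j 2 * vd j 6 + vd j 3 * vd j 7))) % 3 == 1) &&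
    (List.range 8).all (rowFix P j)

/-- The number of fixed vectors of value one. -/
def cntFix (P : List ℕ) : ℕ := (List.range 6561).countP (fixB P)

/-- The numbers of fixed vectors of value one of the representatives. -/
def fixT : List ℕ := [216, 216, 18, 0, 0, 0, 0, 270, 0, 0, 54, 54, 36]

/-- The check of a count. -/
def fixOK (i : ℕ) : Bool := cntFix (wordP (cw (repsC.getD i 0))) == fixT.getD i 0

end Cfsg.Agent.O83
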