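import Mathlib

/-!
# Elements generating conjugate cyclic subgroups
-/

set_option autoImplicit false

namespace Cfsg.Agent.O83

variable {H K : Type*} [Group H] [Group K]

/-- An element is conjugate to another one or to its inverse. -/
def Rel (x y : H) : Prop := ∃ h : H, h * x * h⁻¹ = y ∨ h * x * h⁻¹ = y⁻¹

theorem Rel.refl (x : H) : Rel x x := ⟨1, Or.inl (by simp)⟩

theorem Rel.symm {x y : H} (h : Rel x y) : Rel y x := by
  obtain ⟨g, e | e⟩ := h
  · exact ⟨g⁻¹, Or.inl (by rw [← e]; group)⟩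
  · refine ⟨g⁻¹, Or.inr ?_⟩
    have : y = g * x⁻¹ * g⁻¹ := by rw [← inv_inv y, ← e]; group
    rw [this]; group

theorem Rel.trans {x y z : H} (h : Rel x y) (h' : Rel y z) : Rel x z := by
  obtain ⟨g, e⟩ := h
  obtain ⟨g', e'⟩ := h'
  refine ⟨g' * g, ?_⟩
  have key : g' * g * x * (g' * g)⁻¹ = g' * (g * x * g⁻¹) * g'⁻¹ := by group
  have hi : g' * y⁻¹ * g'⁻¹ = (g' * y * g'⁻¹)⁻¹ := by group
  rw [key]
  rcases e with e | e <;> rcases e' with e' | e' <;> rw [e]
  · exact Or.inl e'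
  · exact Or.inr e'
  · exact Or.inr (by rw [hi, e'])
  · exact Or.inl (by rw [hi, e', inv_inv])

theorem Rel.map {x y : H} (h : Rel x y) (f : H →* K) : Rel (f x) (f y) := by
  obtain ⟨g, e | e⟩ := h
  · exact ⟨f g, Or.inl (by rw [← e, map_mul, map_mul, map_inv])⟩
  · exact ⟨f g, Or.inr (by rw [← map_inv f, ← map_inv f, ← map_mul, ← map_mul, e])⟩

theorem rel_of_mul_eq {g x y : H} (h : g * x = y * g ∨ g * x = y⁻¹ * g) : Rel x y :=
  ⟨g, h.imp (fun e => by rw [e, mul_inv_cancel_right]) fun e => by rw [e, mul_inv_cancel_right]⟩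

/-- Cyclic groups of order three are conjugate exactly when their generators are related. -/
theorem rel_of_zpowers {x y g : H} (hx : x ≠ 1) (hy : y ^ 3 = 1)
    (h : (Subgroup.zpowers x).map (MulAut.conj g).toMonoidHom = Subgroup.zpowers y) : Rel x y := by
  have hm : g * x * g⁻¹ ∈ Subgroup.zpowers y := by
    rw [← h]
    exact ⟨x, Subgroup.mem_zpowers x, rfl⟩
  obtain ⟨k, hk⟩ := hm
  have hne : g * x * g⁻¹ ≠ 1 := fun e => hx (conj_eq_one_iff.1 e)
  have e : y ^ k = y ^ (k % 3) := by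
    conv_lhs => rw [← Int.emod_add_mul_ediv k 3, zpow_add, zpow_mul]
    rw [show y ^ (3 : ℤ) = 1 by exact_mod_cast hy, one_zpow, mul_one]
  change y ^ k = _ at hk
  rw [e] at hk
  rcases (show k % 3 = 0 ∨ k % 3 = 1 ∨ k % 3 = 2 by omega) with h' | h' | h' <;> rw [h'] at hk
  · exact absurd (hk.symm.trans (zpow_zero y)) hne
  · exact ⟨g, Or.inl (hk.symm.trans (zpow_one y))⟩
  · exact ⟨g, Or.inr (hk.symm.trans (eq_inv_of_mul_eq_one_left (by rw [← zpow_add_one]; exact_mod_cast hy)))⟩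

theorem zpowers_of_rel {x y : H} (h : Rel x y) :
    ∃ g : H, (Subgroup.zpowers x).map (MulAut.conj g).toMonoidHom = Subgroup.zpowers y := by
  obtain ⟨g, e | e⟩ := h
  · exact ⟨g, by rw [MonoidHom.map_zpowers]; exact congrArg Subgroup.zpowers e⟩
  · refine ⟨g, ?_⟩
    rw [MonoidHom.map_zpowers, ← Subgroup.zpowers_inv (g := y)]
    exact congrArg Subgroup.zpowers e

end Cfsg.Agent.O83
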