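import Cfsg.Agent.O83.Group
import Cfsg.Agent.O83.Rel
import Cfsg.Agent.O83.Check.CosetsA
import Cfsg.Agent.O83.Check.CosetsB

/-!
# Every element of order three is related to one of thirteen
-/

set_option autoImplicit false

namespace Cfsg.Agent.O83

open Matrix AutPOmega

/-- The representatives. -/
def repO (i : Fin 13) : O := wordO (cw (repsC.getD i 0))

/-- The representatives in POmega. -/
def rP (i : Fin 13) : P8 := mkO (repO i)

theorem cube_iff (w : List ℕ) : wordO w ^ 3 = 1 ↔ cubeP (wordP w) = oneP := by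
  have hP := isP_wordP w
  have e : mat (wordO w ^ 3) = toMat (cubeP (wordP w)) := by
    rw [pow_succ', pow_two, cubeP, mat_mul, mat_mul, mat_wordO, hP.toMat_mul (hP.mul hP), hP.toMat_mul hP]
  constructor
  · intro h
    exact (hP.mul (hP.mul hP)).ext isP_oneP (e.symm.trans ((congrArg mat h).trans toMat_oneP.symm))
  · intro h
    exact ext_mat (e.trans ((congrArg toMat h).trans toMat_oneP))

theorem repO_ne (i : Fin 13) : repO i ≠ 1 := fun h => by
  have : ∀ i : Fin 13, (wordP (cw (repsC.getD i 0)) == oneP) = false := by decide +kernel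
  exact beq_eq_false_iff_ne.1 (this i) (wordO_inj.1 (h.trans wordO_nil.symm))

theorem repO_cube (i : Fin 13) : repO i ^ 3 = 1 := by
  have : ∀ i : Fin 13, (cubeP (wordP (cw (repsC.getD i 0))) == oneP) = true := by decide +kernel
  exact (cube_iff _).2 (beq_iff_eq.1 (this i))

theorem rP_ne (i : Fin 13) : rP i ≠ 1 := fun h =>
  repO_ne i (lift_unique (k := 1) (l := 0) (by rw [pow_one]; exact repO_cube i) (by simp)
    (h.trans (map_one _).symm))

theorem orderOf_rP (i : Fin 13) : orderOf (rP i) = 3 :=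
  orderOf_eq_prime (by rw [rP, ← map_pow, repO_cube, map_one]) (rP_ne i)

theorem rP_cube (i : Fin 13) : rP i ^ 3 = 1 := orderOf_dvd_iff_pow_eq_one.1 (dvd_of_eq (orderOf_rP i))

/-- The meaning of a certificate. -/
theorem of_certOK {v w : List ℕ} {X : List ℕ} (hX : X = wordP v) {e : ℕ} (h : certOK X (wordP w) e = true)
    (h3 : wordO w ^ 3 = 1) :
    wordO (cWord e) * wordO v * (wordO (cWord e))⁻¹ = wordO w ∨
      wordO (cWord e) * wordO v * (wordO (cWord e))⁻¹ = (wordO w)⁻¹ := by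
  subst hX
  simp only [certOK, beq_iff_eq] at h
  cases hn : cNeg e <;> simp only [hn, ↓reduceIte, Bool.false_eq_true] at h
  · refine Or.inl (mul_inv_eq_iff_eq_mul.2 (ext_mat ?_))
    rw [mat_mul, mat_mul, mat_wordO, mat_wordO, mat_wordO, ← (isP_wordP _).toMat_mul (isP_wordP _), h,
      (isP_wordP _).toMat_mul (isP_wordP _)]
  · refine Or.inr (mul_inv_eq_iff_eq_mul.2 ?_)
    rw [show (wordO w)⁻¹ = wordO w * wordO w from
      inv_eq_of_mul_eq_one_right (by rw [← pow_two, ← pow_succ', h3])]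
    refine ext_mat ?_
    rw [mat_mul, mat_mul, mat_mul, mat_wordO, mat_wordO, mat_wordO, ← (isP_wordP _).toMat_mul (isP_wordP _), h,
      ((isP_wordP _).mul (isP_wordP _)).toMat_mul (isP_wordP _), (isP_wordP _).toMat_mul (isP_wordP _)]

theorem certL_all {a : ℕ} (ha : a < 729) : certLOK a = true := by
  have h : blockCertLOK (a / 243) = true := by
    have : a / 243 < 3 := by omega
    interval_cases a / 243
    exacts [blockCertLOK_0, blockCertLOK_1, blockCertLOK_2]
  have h' := (List.all_eq_true.1 h) (a % 243) (List.mem_range.2 (Nat.mod_lt _ (by norm_num)))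
  rwa [Nat.div_add_mod] at h'

theorem certX_all {j b : ℕ} (hj : j < 5) (hb : b < 729) : certXOK j b = true := by
  have h : blockCertXOK j (b / 243) = true := by
    have : b / 243 < 3 := by omega
    interval_cases j <;> interval_cases b / 243
    exacts [blockCertXOK_0_0, blockCertXOK_0_1, blockCertXOK_0_2, blockCertXOK_1_0, blockCertXOK_1_1,
      blockCertXOK_1_2, blockCertXOK_2_0, blockCertXOK_2_1, blockCertXOK_2_2, blockCertXOK_3_0, blockCertXOK_3_1,
      blockCertXOK_3_2, blockCertXOK_4_0, blockCertXOK_4_1, blockCertXOK_4_2]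
  have h' := (List.all_eq_true.1 h) (b % 243) (List.mem_range.2 (Nat.mod_lt _ (by norm_num)))
  rwa [Nat.div_add_mod] at h'

theorem coset_rel {j : ℕ} (hj : j < 5) {q : O} (hq : q ∈ QS)
    (h3 : (wordO (la (cosetA.getD j 0)) * q) ^ 3 = 1) (h1 : wordO (la (cosetA.getD j 0)) * q ≠ 1) :
    ∃ i, Rel (wordO (la (cosetA.getD j 0)) * q) (repO i) := by
  obtain ⟨b, hb, rfl⟩ := hq
  rw [← wordO_append] at h3 h1 ⊢
  have hX : mulP (wordP (la (cosetA.getD j 0))) (wordP (qa b)) = wordP (la (cosetA.getD j 0) ++ qa b) :=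
    ((isP_wordP _).mul (isP_wordP _)).ext (isP_wordP _) (by
      rw [(isP_wordP _).toMat_mul (isP_wordP _), ← mat_wordO, ← mat_wordO, ← mat_wordO, wordO_append, mat_mul])
  have h := certX_all hj hb
  simp only [certXOK, Bool.or_eq_true, Bool.and_eq_true, beq_iff_eq, decide_eq_true_eq, Bool.not_eq_true',
    beq_eq_false_iff_ne] at h
  rcases h with (⟨hj0, hb0⟩ | h) | ⟨hi, h⟩
  · refine absurd ?_ h1
    subst hj0 hb0
    rfl
  · exact absurd (by rw [hX]; exact (cube_iff _).1 h3) h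
  · exact ⟨⟨_, hi⟩, _, of_certOK hX h (repO_cube ⟨_, hi⟩)⟩

theorem US_rel {u : O} (hu : u ∈ US) (h3 : u ^ 3 = 1) (h1 : u ≠ 1) : ∃ i, Rel u (repO i) := by
  obtain ⟨l, hl, q, hq, rfl⟩ := hu
  have hlN := LS_le_normalizer hl
  have hl3 : l ^ 3 = 1 := by
    refine disjoint_LQ (pow_mem hl 3) ?_
    have h2 : l⁻¹ * (l⁻¹ * q * l) * l * (l⁻¹ * q * l) * q ∈ QS :=
      mul_mem (mul_mem (conj_QS' hlN (conj_QS' hlN hq)) (conj_QS' hlN hq)) hq
    have e : (l * q) ^ 3 = l ^ 3 * (l⁻¹ * (l⁻¹ * q * l) * l * (l⁻¹ * q * l) * q) := by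
      simp [pow_succ, mul_assoc]
    rw [e, mul_eq_one_iff_eq_inv] at h3
    rw [h3]
    exact inv_mem h2
  obtain ⟨a, ha, rfl⟩ := hl
  change (wordO (la a) * q) ^ 3 = 1 at h3
  change wordO (la a) * q ≠ 1 at h1
  have h := certL_all ha
  simp only [certLOK, Bool.or_eq_true, Bool.and_eq_true, beq_iff_eq, decide_eq_true_eq, Bool.not_eq_true',
    beq_eq_false_iff_ne, List.all_eq_true, List.contains_iff_mem] at h
  rcases h with (rfl | h) | ⟨⟨hlev, hi⟩, h⟩
  · exact coset_rel (j := 0) (by norm_num) hq h3 h1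
  · exact absurd ((cube_iff _).1 hl3) h
  · set e := lookT certL a
    set H := wordO (cWord e) with hHd
    have hH : H ∈ Subgroup.normalizer (QS : Set O) := wordO_mem fun k hk => lev_normalizer (hlev k hk)
    obtain ⟨j, hj, ej⟩ : ∃ j < 5, cosetA.getD j 0 = repsL.getD (cIdx e) 0 := by
      have : ∀ k < 4, ∃ j < 5, cosetA.getD j 0 = repsL.getD k 0 := by decide
      exact this _ hi
    have h3' : wordO (la (repsL.getD (cIdx e) 0)) ^ 3 = 1 := by
      have : ∀ k < 4, (cubeP (wordP (la (repsL.getD k 0))) == oneP) = true := by decide +kernel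
      exact (cube_iff _).2 (beq_iff_eq.1 (this _ hi))
    set l' := wordO (la (repsL.getD (cIdx e) 0)) with hl'
    have hl'N : l' ∈ Subgroup.normalizer (QS : Set O) := LS_le_normalizer ⟨_, by
      have : ∀ k < 4, repsL.getD k 0 < 729 := by decide
      exact this _ hi, rfl⟩
    set q' := H * q * H⁻¹ with hqd
    have hq' : q' ∈ QS := conj_QS hH hq
    have hc : ∀ {y : O}, H * (wordO (la a) * q) * H⁻¹ = y → Rel (wordO (la a) * q) y := fun hy => ⟨H, Or.inl hy⟩
    have el : wordO (la (cosetA.getD j 0)) = l' := by rw [ej]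
    rcases of_certOK rfl h h3' with e' | e' <;> rw [← hHd, ← hl'] at e'
    · have hy : H * (wordO (la a) * q) * H⁻¹ = l' * q' := by rw [hqd, ← e']; group
      obtain ⟨i, hi'⟩ := coset_rel (q := q') hj hq' (by
        rw [el, ← hy, conj_pow, h3, mul_one, mul_inv_cancel]) (by rw [ej, ← hy]; exact fun he => h1 (conj_eq_one_iff.1 he))
      rw [el] at hi'
      exact ⟨i, (hc hy).trans hi'⟩
    · have hy : H * (wordO (la a) * q) * H⁻¹ = (l' * (l'⁻¹ * q'⁻¹ * l'))⁻¹ := by
        rw [show l' * (l'⁻¹ * q'⁻¹ * l') = q'⁻¹ * l' by group, _root_.mul_inv_rev, inv_inv, hqd, ← e']; group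
      obtain ⟨i, hi'⟩ := coset_rel (q := l'⁻¹ * q'⁻¹ * l') hj (conj_QS' hl'N (inv_mem hq')) (by
        rw [el, ← inv_inv (l' * _), ← hy, inv_pow, conj_pow, h3, mul_one, mul_inv_cancel, inv_one]) (by
        rw [el, ← inv_inv (l' * _), ← hy, inv_ne_one]; exact fun he => h1 (conj_eq_one_iff.1 he))
      rw [el] at hi'
      exact ⟨i, ((hc hy).trans ⟨1, Or.inr (by simp)⟩).trans hi'⟩

/-- Every element of order three of POmega is related to a representative. -/
theorem exists_class {x : P8} (hx : orderOf x = 3) : ∃ i, Rel x (rP i) := by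
  obtain ⟨u, hu, h3, h1, g, hg⟩ := exists_conj_US hx
  obtain ⟨i, hi⟩ := US_rel hu h3 h1
  exact ⟨i, Rel.trans ⟨g, Or.inl hg⟩ (hi.map mkO)⟩

end Cfsg.Agent.O83
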