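import Cfsg.Agent.O83.CheckDefs
import Cfsg.Agent.O83.Check.Radical
import Cfsg.Agent.O83.Check.Levi
import Cfsg.Agent.AutPOmega.Triality.Pre8
import Cfsg.Agent.AutPOmega.Balance
import Cfsg.Agent.S0293

/-!
# The triangular Sylow 3-subgroup of Ω₈⁺(3)
-/

set_option autoImplicit false

namespace Cfsg.Agent.O83

open Matrix AutPOmega AutPOmega.Triality Classical.Quad

instance : Fact (Nat.Prime 3) := ⟨Nat.prime_three⟩

/-- The form. -/
abbrev q8 : QuadraticForm (ZMod 3) (Ix → ZMod 3) := qPlus (ZMod 3) 4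

/-- The group Omega. -/
abbrev O : Type := Om q8

/-- The group POmega. -/
abbrev P8 : Type := Cfsg.POmega (ZMod 3) ⇑q8

theorem ext_mat {x y : O} (h : mat x = mat y) : x = y := Subtype.ext (Subtype.ext (Units.ext h))

theorem mat_mul (x y : O) : mat (x * y) = mat x * mat y := rfl

theorem two_q (v : Ix → ZMod 3) : v ⬝ᵥ (toMat formP *ᵥ v) = 2 * q8 v := by
  rw [toMat_formP_apply, q_eq, Fin.sum_univ_four]
  ring

theorem formP_sq : toMat formP * toMat formP = 1 := by
  have hf : IsP formP := ⟨_, rfl⟩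
  rw [← hf.toMat_mul hf, show mulP formP formP = oneP by decide +kernel, toMat_oneP]

/-- A packed isometry as an element of the isometry group. -/
def isoG (P : List ℕ) (hP : IsP P) (h : isoP P = true) : Cfsg.isometryGroup (ZMod 3) ⇑q8 :=
  ⟨⟨toMat P, toMat formP * ((toMat P)ᵀ * toMat formP), mul_eq_one_comm.1 (by
      rw [Matrix.mul_assoc, Matrix.mul_assoc, isoP_form hP h, formP_sq]), by
      rw [Matrix.mul_assoc, Matrix.mul_assoc, isoP_form hP h, formP_sq]⟩,
    mem_isometryGroup_iff.2 fun v => by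
      have e : (toMat P *ᵥ v) ⬝ᵥ (toMat formP *ᵥ (toMat P *ᵥ v)) = v ⬝ᵥ (toMat formP *ᵥ v) := by
        conv_rhs => rw [← isoP_form hP h, ← Matrix.mulVec_mulVec, ← Matrix.mulVec_mulVec]
        rw [Matrix.dotProduct_mulVec v, Matrix.vecMul_transpose]
      rw [two_q, two_q] at e
      exact mul_left_cancel₀ (by decide : (2 : ZMod 3) ≠ 0) e⟩

theorem isoG_val (P : List ℕ) (hP : IsP P) (h : isoP P = true) :
    ((isoG P hP h).1 : Matrix Ix Ix (ZMod 3)) = toMat P := rfl

theorem gP_props (k : ℕ) : IsP (gP k) ∧ isoP (gP k) = true ∧ cubeP (gP k) = oneP := by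
  by_cases hk : k < 48
  · have h := (List.all_eq_true.1 genOK_all) k (List.mem_range.2 hk)
    simp only [genOK, Bool.and_eq_true, beq_iff_eq] at h
    exact ⟨isP_of_wfP h.1.1, h.1.2, h.2⟩
  · have hl : gensT.length = 48 := rfl
    have : gP k = oneP := List.getD_eq_default _ _ (by omega)
    rw [this]
    exact ⟨isP_oneP, by decide +kernel, by decide +kernel⟩

theorem isP_gP (k : ℕ) : IsP (gP k) := (gP_props k).1

/-- A generator as an isometry. -/
def gG (k : ℕ) : Cfsg.isometryGroup (ZMod 3) ⇑q8 := isoG (gP k) (gP_props k).1 (gP_props k).2.1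

/-- The square of an isometry lies in Omega. -/
theorem sq_mem (g : Cfsg.isometryGroup (ZMod 3) ⇑q8) : g * g ∈ Cfsg.Omega (ZMod 3) ⇑q8 := by
  rw [mem_omega_iff, map_mul, ← Abelianization.ker_of, MonoidHom.mem_ker, map_mul]
  have hmem : oEquiv q8 g ∈ Subgroup.closure (reflSet q8) := by
    rw [closure_reflSet pre8.nondeg
      (Or.inr (by rw [Module.finrank_fintype_fun_eq_card]; have := (pre8 (F := ZMod 3)).seven; omega))]
    trivial
  generalize oEquiv q8 g = x at hmem ⊢
  induction hmem using Subgroup.closure_induction with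
  | mem x hx =>
    obtain ⟨v, hv, rfl⟩ := hx
    exact of_rO_self hv
  | one => rw [map_one, mul_one]
  | mul x y _ _ hx hy => rw [map_mul, mul_mul_mul_comm, hx, hy, mul_one]
  | inv x _ hx => rw [map_inv, ← _root_.mul_inv_rev, hx, inv_one]

theorem gG_cube (k : ℕ) : gG k * (gG k * gG k) = 1 := by
  refine Subtype.ext (Units.ext ?_)
  show toMat (gP k) * (toMat (gP k) * toMat (gP k)) = 1
  rw [← (isP_gP k).toMat_mul (isP_gP k), ← (isP_gP k).toMat_mul ((isP_gP k).mul (isP_gP k))]
  exact (congrArg toMat (gP_props k).2.2).trans toMat_oneP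

/-- A generator in Omega. -/
def gO (k : ℕ) : O := ⟨gG k, by
  have h := mul_mem (sq_mem (gG k)) (sq_mem (gG k))
  rwa [mul_assoc, gG_cube, mul_one] at h⟩

theorem mat_gO (k : ℕ) : mat (gO k) = toMat (gP k) := rfl

/-- The element of a word. -/
def wordO (w : List ℕ) : O := (w.map gO).prod

theorem isP_wordP (w : List ℕ) : IsP (wordP w) := by
  induction w with
  | nil => exact isP_oneP
  | cons k w ih => exact (isP_gP k).mul ih

theorem mat_wordO (w : List ℕ) : mat (wordO w) = toMat (wordP w) := by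
  induction w with
  | nil => exact toMat_oneP.symm
  | cons k w ih =>
    show mat (gO k * wordO w) = toMat (mulP (gP k) (wordP w))
    rw [(isP_gP k).toMat_mul (isP_wordP w), mat_mul, mat_gO, ih]

theorem wordO_append (v w : List ℕ) : wordO (v ++ w) = wordO v * wordO w := by
  simp [wordO, List.map_append, List.prod_append]

theorem wordO_nil : wordO [] = 1 := rfl

theorem wordO_inj {v w : List ℕ} : wordO v = wordO w ↔ wordP v = wordP w := by
  constructor
  · intro h
    exact (isP_wordP v).ext (isP_wordP w) (by rw [← mat_wordO, ← mat_wordO, h])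
  · intro h
    exact ext_mat (by rw [mat_wordO, mat_wordO, h])

theorem gO_cube (k : ℕ) : gO k * (gO k * gO k) = 1 := Subtype.ext (gG_cube k)

theorem wordO_mem {S : Subgroup O} {w : List ℕ} (h : ∀ k ∈ w, gO k ∈ S) : wordO w ∈ S :=
  S.list_prod_mem fun x hx => by
    obtain ⟨k, hk, rfl⟩ := List.mem_map.1 hx
    exact h k hk

/-- The properties of a table of the elements of a subgroup generated by six roots. -/
structure Closed (gs : List ℕ) : Prop where
  sq : ∀ i < 6, gO (gs.getD i 0) * gO (gs.getD i 0) = gO (gs.getD i 0 + 1)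
  step : ∀ a < 729, ∀ i < 6, ∃ r < 729, wordO (digWord gs a) * gO (gs.getD i 0) = wordO (digWord gs r)

theorem mem_digWord {gs : List ℕ} {a k : ℕ} (h : k ∈ digWord gs a) :
    ∃ i < 6, k = gs.getD i 0 ∨ k = gs.getD i 0 + 1 := by
  simp only [digWord, List.mem_flatMap, List.mem_range] at h
  obtain ⟨i, hi, h⟩ := h
  refine ⟨i, hi, ?_⟩
  have := Nat.mod_lt (a / 3 ^ i) (by norm_num : 3 > 0)
  split at h
  · exact absurd h (List.not_mem_nil)
  · rw [List.mem_singleton] at h
    omega

theorem digWord_zero (gs : List ℕ) : digWord gs 0 = [] := by simp [digWord]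

theorem Closed.mul_word {gs : List ℕ} (h : Closed gs) :
    ∀ w : List ℕ, (∀ k ∈ w, ∃ i < 6, k = gs.getD i 0 ∨ k = gs.getD i 0 + 1) →
      ∀ a < 729, ∃ r < 729, wordO (digWord gs a) * wordO w = wordO (digWord gs r) := by
  intro w
  induction w with
  | nil => exact fun _ a ha => ⟨a, ha, by rw [wordO_nil, mul_one]⟩
  | cons k w ih =>
    intro hw a ha
    obtain ⟨i, hi, e⟩ := hw k List.mem_cons_self
    have hk : ∃ r < 729, wordO (digWord gs a) * gO k = wordO (digWord gs r) := by
      obtain ⟨r, hr, er⟩ := h.step a ha i hi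
      rcases e with rfl | rfl
      · exact ⟨r, hr, er⟩
      · obtain ⟨r', hr', er'⟩ := h.step r hr i hi
        exact ⟨r', hr', by rw [← h.sq i hi, ← mul_assoc, er, er']⟩
    obtain ⟨r, hr, er⟩ := hk
    obtain ⟨r', hr', er'⟩ := ih (fun x hx => hw x (List.mem_cons_of_mem _ hx)) r hr
    exact ⟨r', hr', by rw [show wordO (k :: w) = gO k * wordO w from rfl, ← mul_assoc, er, er']⟩

/-- The subgroup of a table. -/
def Closed.sub {gs : List ℕ} (h : Closed gs) : Subgroup O where
  carrier := {x | ∃ a < 729, wordO (digWord gs a) = x}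
  one_mem' := ⟨0, by norm_num, by rw [digWord_zero, wordO_nil]⟩
  mul_mem' := by
    rintro _ _ ⟨a, ha, rfl⟩ ⟨b, -, rfl⟩
    obtain ⟨r, hr, e⟩ := h.mul_word _ (fun k hk => mem_digWord hk) a ha
    exact ⟨r, hr, e.symm⟩
  inv_mem' := by
    rintro _ ⟨a, ha, rfl⟩
    have hpow : ∀ n : ℕ, ∃ r < 729, wordO (digWord gs r) = wordO (digWord gs a) ^ n := fun n => by
      induction n with
      | zero => exact ⟨0, by norm_num, by rw [digWord_zero, wordO_nil, pow_zero]⟩
      | succ n ih =>
        obtain ⟨r, hr, e⟩ := ih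
        obtain ⟨r', hr', e'⟩ := h.mul_word _ (fun k hk => mem_digWord hk) r hr
        exact ⟨r', hr', by rw [pow_succ, ← e, e']⟩
    obtain ⟨r, hr, e⟩ := hpow (orderOf (wordO (digWord gs a)) - 1)
    refine ⟨r, hr, e.trans (eq_inv_of_mul_eq_one_left ?_)⟩
    rw [← pow_succ, Nat.sub_add_cancel (orderOf_pos _), pow_orderOf_eq_one]

theorem Closed.gen_mem {gs : List ℕ} (h : Closed gs) {i : ℕ} (hi : i < 6) : gO (gs.getD i 0) ∈ h.sub := by
  obtain ⟨r, hr, e⟩ := h.step 0 (by norm_num) i hi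
  exact ⟨r, hr, by rw [← e, digWord_zero, wordO_nil, one_mul]⟩

theorem lCode_all {a : ℕ} (ha : a < 729) : lCodeOK a = true := by
  have h : blockLOK (a / 243) = true := by
    have : a / 243 < 3 := by omega
    interval_cases a / 243
    exacts [blockLOK_0, blockLOK_1, blockLOK_2]
  have h' := (List.all_eq_true.1 h) (a % 243) (List.mem_range.2 (Nat.mod_lt _ (by norm_num)))
  rwa [Nat.div_add_mod] at h'

theorem qCode_all {b : ℕ} (hb : b < 729) : qCodeOK b = true ∧ disjOK b = true := by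
  have h : blockQOK (b / 243) = true := by
    have : b / 243 < 3 := by omega
    interval_cases b / 243
    exacts [blockQOK_0, blockQOK_1, blockQOK_2]
  have h' := (List.all_eq_true.1 h) (b % 243) (List.mem_range.2 (Nat.mod_lt _ (by norm_num)))
  rw [Nat.div_add_mod, Bool.and_eq_true] at h'
  exact h'

theorem roots_all : rootsOK lgens = true ∧ rootsOK qgens = true ∧ normOK = true := by
  have h := rootsOK_all
  rw [Bool.and_eq_true, Bool.and_eq_true] at h
  exact ⟨h.1.1, h.1.2, h.2⟩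

theorem sq_of_rootsOK {gs : List ℕ} (h : rootsOK gs = true) (i : ℕ) (hi : i < 6) :
    gO (gs.getD i 0) * gO (gs.getD i 0) = gO (gs.getD i 0 + 1) := by
  have h' := (List.all_eq_true.1 h) i (List.mem_range.2 hi)
  rw [Bool.and_eq_true, beq_iff_eq] at h'
  exact ext_mat (by rw [mat_mul, mat_gO, mat_gO, ← (isP_gP _).toMat_mul (isP_gP _), h'.2])

theorem lClosed : Closed lgens := ⟨sq_of_rootsOK roots_all.1, fun a ha i hi => by
  have h := lCode_all ha
  simp only [lCodeOK, Bool.and_eq_true, List.all_eq_true, List.mem_range, decide_eq_true_eq, beq_iff_eq] at h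
  obtain ⟨hr, e⟩ := h.2 i hi
  exact ⟨_, hr, ext_mat (by
    rw [mat_mul, mat_wordO, mat_gO, mat_wordO, ← (isP_wordP _).toMat_mul (isP_gP _)]
    exact congrArg toMat e)⟩⟩

theorem qClosed : Closed qgens := ⟨sq_of_rootsOK roots_all.2.1, fun b hb i hi => by
  have h := (qCode_all hb).1
  simp only [qCodeOK, Bool.and_eq_true, List.all_eq_true, List.mem_range, decide_eq_true_eq, beq_iff_eq] at h
  obtain ⟨hr, e⟩ := h.2 i hi
  exact ⟨_, hr, ext_mat (by
    rw [mat_mul, mat_wordO, mat_gO, mat_wordO, ← (isP_wordP _).toMat_mul (isP_gP _)]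
    exact congrArg toMat e)⟩⟩

/-- The Levi part. -/
def LS : Subgroup O := lClosed.sub

/-- The radical. -/
def QS : Subgroup O := qClosed.sub

theorem readL_la {a : ℕ} (ha : a < 729) : readL (wordP (la a)) = a := by
  have h := lCode_all ha
  simp only [lCodeOK, Bool.and_eq_true, beq_iff_eq] at h
  exact h.1

theorem readQ_qa {b : ℕ} (hb : b < 729) : readQ (wordP (qa b)) = b := by
  have h := (qCode_all hb).1
  simp only [qCodeOK, Bool.and_eq_true, beq_iff_eq] at h
  exact h.1

theorem disjoint_LQ {x : O} (hL : x ∈ LS) (hQ : x ∈ QS) : x = 1 := by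
  obtain ⟨a, ha, rfl⟩ := hL
  obtain ⟨b, hb, e⟩ := hQ
  have e' : wordP (qa b) = wordP (la a) := wordO_inj.1 e
  have h := (qCode_all ha).2
  simp only [disjOK, ← e', readQ_qa hb, beq_self_eq_true, Bool.not_true, Bool.or_false, beq_iff_eq] at h
  subst h
  rw [digWord_zero, wordO_nil]

theorem lev_normalizer {k : ℕ} (hk : k ∈ levs) : gO k ∈ Subgroup.normalizer (QS : Set O) := by
  have hgen : ∀ i < 6, gO k * gO (qgens.getD i 0) * (gO k)⁻¹ ∈ QS := fun i hi => by
    have h := (List.all_eq_true.1 roots_all.2.2) k hk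
    simp only [Bool.and_eq_true, List.all_eq_true, List.mem_range, decide_eq_true_eq, beq_iff_eq] at h
    obtain ⟨hr, e⟩ := h.2 i hi
    refine ⟨_, hr, ?_⟩
    rw [show (gO k)⁻¹ = gO k * gO k from inv_eq_of_mul_eq_one_right (gO_cube k)]
    refine ext_mat ?_
    rw [mat_wordO, mat_mul, mat_mul, mat_mul, mat_gO, mat_gO, Matrix.mul_assoc,
      ← (isP_gP k).toMat_mul (isP_gP k), ← (isP_gP _).toMat_mul ((isP_gP k).mul (isP_gP k)),
      ← (isP_gP k).toMat_mul ((isP_gP _).mul ((isP_gP k).mul (isP_gP k)))]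
    exact congrArg toMat e.symm
  have hcl : ∀ w : List ℕ, (∀ l ∈ w, ∃ i < 6, l = qgens.getD i 0 ∨ l = qgens.getD i 0 + 1) →
      gO k * wordO w * (gO k)⁻¹ ∈ QS := by
    intro w
    induction w with
    | nil => intro _; rw [wordO_nil, mul_one, mul_inv_cancel]; exact one_mem _
    | cons l w ih =>
      intro hw
      obtain ⟨i, hi, e⟩ := hw l List.mem_cons_self
      have hl : gO k * gO l * (gO k)⁻¹ ∈ QS := by
        rcases e with e | e
        · rw [e]; exact hgen i hi
        · rw [e, ← qClosed.sq i hi, ← conj_mul]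
          exact mul_mem (hgen i hi) (hgen i hi)
      have e2 : wordO (l :: w) = gO l * wordO w := by simp only [wordO, List.map_cons, List.prod_cons]
      rw [e2, ← conj_mul]
      exact mul_mem hl (ih fun x hx => hw x (List.mem_cons_of_mem _ hx))
  refine Subgroup.mem_normalizer_fintype fun x hx => ?_
  rw [SetLike.mem_coe] at hx ⊢
  obtain ⟨b, -, rfl⟩ := hx
  exact hcl _ fun l hl => mem_digWord hl

theorem LS_le_normalizer : LS ≤ Subgroup.normalizer (QS : Set O) := by
  rintro x ⟨a, -, rfl⟩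
  refine wordO_mem fun k hk => lev_normalizer ?_
  obtain ⟨i, hi, e⟩ := mem_digWord hk
  have : ∀ i < 6, lgens.getD i 0 ∈ levs ∧ lgens.getD i 0 + 1 ∈ levs := by decide
  rcases e with rfl | rfl
  exacts [(this i hi).1, (this i hi).2]

theorem conj_QS {l q : O} (hl : l ∈ Subgroup.normalizer (QS : Set O)) (hq : q ∈ QS) : l * q * l⁻¹ ∈ QS :=
  (Subgroup.mem_set_normalizer_iff.1 hl q).1 hq

theorem conj_QS' {l q : O} (hl : l ∈ Subgroup.normalizer (QS : Set O)) (hq : q ∈ QS) : l⁻¹ * q * l ∈ QS := by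
  have := conj_QS (inv_mem hl) hq
  rwa [inv_inv] at this

/-- The triangular subgroup. -/
def US : Subgroup O where
  carrier := {x | ∃ l ∈ LS, ∃ q ∈ QS, x = l * q}
  one_mem' := ⟨1, one_mem _, 1, one_mem _, (one_mul 1).symm⟩
  mul_mem' := by
    rintro _ _ ⟨l, hl, q, hq, rfl⟩ ⟨l', hl', q', hq', rfl⟩
    exact ⟨l * l', mul_mem hl hl', l'⁻¹ * q * l' * q', mul_mem (conj_QS' (LS_le_normalizer hl') hq) hq', by group⟩
  inv_mem' := by
    rintro _ ⟨l, hl, q, hq, rfl⟩
    exact ⟨l⁻¹, inv_mem hl, l * q⁻¹ * l⁻¹, conj_QS (LS_le_normalizer hl) (inv_mem hq), by group⟩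

theorem card_tab {gs : List ℕ} (h : Closed gs) (read : List ℕ → ℕ)
    (hr : ∀ a < 729, read (wordP (digWord gs a)) = a) : Nat.card h.sub = 729 := by
  refine (Nat.card_congr (Equiv.ofBijective
    (fun a : Fin 729 => (⟨wordO (digWord gs a), a, a.2, rfl⟩ : h.sub)) ⟨fun a b e => ?_, ?_⟩)).symm.trans
    (Nat.card_fin _)
  · refine Fin.ext ?_
    rw [← hr a a.2, ← hr b b.2, wordO_inj.1 (congrArg Subtype.val e)]
  · rintro ⟨x, a, ha, rfl⟩
    exact ⟨⟨a, ha⟩, rfl⟩

theorem card_US : Nat.card US = 3 ^ 12 := by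
  have e : Nat.card US = Nat.card (↥LS × ↥QS) := by
    refine (Nat.card_congr (Equiv.ofBijective
      (fun z : ↥LS × ↥QS => (⟨z.1.1 * z.2.1, z.1.1, z.1.2, z.2.1, z.2.2, rfl⟩ : US)) ⟨?_, ?_⟩)).symm
    · rintro ⟨⟨l, hl⟩, ⟨q, hq⟩⟩ ⟨⟨l', hl'⟩, ⟨q', hq'⟩⟩ h
      have h' : l * q = l' * q' := congrArg Subtype.val h
      have h1 : l'⁻¹ * l = q' * q⁻¹ := by
        calc l'⁻¹ * l = l'⁻¹ * (l * q) * q⁻¹ := by group
          _ = q' * q⁻¹ := by rw [h']; group
      have h2 := disjoint_LQ (mul_mem (inv_mem hl') hl) (h1 ▸ mul_mem hq' (inv_mem hq))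
      obtain rfl : l' = l := inv_mul_eq_one.1 h2
      obtain rfl : q = q' := mul_left_cancel h'
      rfl
    · rintro ⟨x, l, hl, q, hq, rfl⟩
      exact ⟨⟨⟨l, hl⟩, ⟨q, hq⟩⟩, rfl⟩
  rw [e, Nat.card_prod, show Nat.card LS = 729 from card_tab lClosed readL fun a ha => readL_la ha,
    show Nat.card QS = 729 from card_tab qClosed readQ fun b hb => readQ_qa hb]
  norm_num

theorem US_pow {u : O} (hu : u ∈ US) : u ^ 3 ^ 12 = 1 := by
  rw [← card_US]
  exact orderOf_dvd_iff_pow_eq_one.1 (Subgroup.orderOf_dvd_natCard US hu)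

/-- Elements of three-power order with the same image are equal. -/
theorem lift_unique {a b : O} {k l : ℕ} (ha : a ^ 3 ^ k = 1) (hb : b ^ 3 ^ l = 1) (h : mkO a = mkO b) : a = b :=
  eq_of_mkO_eq pre8 3 ha hb h

theorem card_P8 : Nat.card P8 = 4952179814400 := by
  have h := S0293.result (F := ZMod 3) (q := 3) (ZMod.card 3) 4 (le_refl 4)
  rw [Finset.prod_range_succ, Finset.prod_range_succ, Finset.prod_range_succ, Finset.prod_range_zero] at h
  norm_num at h
  change 4 * Nat.card P8 = _ at h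
  omega

/-- Every element of order three of POmega is related to a triangular element of order three. -/
theorem exists_conj_US {x : P8} (hx : orderOf x = 3) : ∃ u ∈ US, u ^ 3 = 1 ∧ u ≠ 1 ∧ ∃ g : P8, g * x * g⁻¹ = mkO u := by
  classical
  have hinj : Function.Injective ((mkO (Q := q8)).comp US.subtype) := fun a b e =>
    Subtype.ext (lift_unique (US_pow a.2) (US_pow b.2) e)
  have hcard : Nat.card (US.map (mkO (Q := q8))) = 3 ^ (Nat.card P8).factorization 3 := by
    rw [← US.range_subtype, MonoidHom.map_range, ← Nat.card_congr (MonoidHom.ofInjective hinj).toEquiv, card_US]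
    congr 1
    have e : Nat.card P8 = 3 ^ 12 * (Nat.card P8 / 531441) := by rw [card_P8]; norm_num
    rw [e, Nat.factorization_mul (by norm_num) (by rw [card_P8]; norm_num), Finsupp.add_apply,
      Nat.factorization_pow_self Nat.prime_three,
      Nat.factorization_eq_zero_of_not_dvd (by rw [card_P8]; norm_num)]
  let S : Sylow 3 P8 := Sylow.ofCard _ hcard
  have hp : IsPGroup 3 (Subgroup.zpowers x) := IsPGroup.of_card (n := 1) (by rw [Nat.card_zpowers, hx, pow_one])
  obtain ⟨T, hT⟩ := hp.exists_le_sylow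
  obtain ⟨g, hg⟩ := MulAction.exists_smul_eq P8 T S
  have hmem : g * x * g⁻¹ ∈ (S : Subgroup P8) := by
    rw [← hg, Sylow.coe_subgroup_smul]
    exact ⟨x, hT (Subgroup.mem_zpowers _), rfl⟩
  obtain ⟨u, hu, e⟩ : ∃ u ∈ US, mkO u = g * x * g⁻¹ := hmem
  refine ⟨u, hu, ?_, fun h => ?_, g, e.symm⟩
  · refine lift_unique (k := 12) (l := 0) (US_pow (pow_mem hu 3)) (by simp) ?_
    rw [map_pow, e, conj_pow, orderOf_dvd_iff_pow_eq_one.1 (dvd_of_eq hx), mul_one, mul_inv_cancel, map_one]
  · rw [h, map_one, eq_comm, conj_eq_one_iff] at e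
    rw [e, orderOf_one] at hx
    omega

end Cfsg.Agent.O83
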