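import Cfsg.Agent.O83.Classes
import Cfsg.Agent.O83.Check.Fixed

/-!
# Fixed vectors of value one
-/

set_option autoImplicit false

namespace Cfsg.Agent.O83

open Matrix AutPOmega

/-- The number of fixed vectors of value one. -/
noncomputable def fixN (x : O) : ℕ := Nat.card {v : Ix → ZMod 3 // mat x *ᵥ v = v ∧ q8 v = 1}

theorem fixN_inv (x : O) : fixN x⁻¹ = fixN x := by
  have key : ∀ (x : O) v, mat x *ᵥ v = v → mat x⁻¹ *ᵥ v = v := fun x v h => by
    nth_rewrite 1 [← h]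
    exact mat_inv_mulVec x v
  exact Nat.card_congr (Equiv.subtypeEquivRight fun v =>
    and_congr_left' ⟨fun h => by simpa using key x⁻¹ v h, key x v⟩)

theorem fixN_conj (h x : O) : fixN (h * x * h⁻¹) = fixN x := by
  refine (Nat.card_congr (Equiv.subtypeEquiv ⟨(mat h *ᵥ ·), (mat h⁻¹ *ᵥ ·), fun v => mat_inv_mulVec h v,
    fun v => mat_mulVec_inv h v⟩ fun v => ?_)).symm
  show _ ↔ mat (h * x * h⁻¹) *ᵥ (mat h *ᵥ v) = mat h *ᵥ v ∧ q8 (mat h *ᵥ v) = 1
  rw [Q_mat, mat_mul_mulVec, mat_inv_mulVec, mat_mul_mulVec]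
  exact and_congr_left' ⟨fun e => by rw [e], fun e => mat_injective h e⟩

theorem fixN_of_rel {x y : O} (h : Rel x y) : fixN x = fixN y := by
  obtain ⟨g, e | e⟩ := h
  · rw [← e, fixN_conj]
  · rw [← fixN_inv y, ← e, fixN_conj]

/-- The indices in their order. -/
noncomputable def posE : Ix ≃ Fin 8 :=
  Equiv.ofBijective (fun i => ⟨pos i, pos_lt i⟩) (by decide +kernel)

theorem fixN_eq_cnt (w : List ℕ) : fixN (wordO w) = cntFix (wordP w) := by
  classical
  let e : (Ix → ZMod 3) ≃ Fin (3 ^ 8) :=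
    (Equiv.arrowCongr posE (Equiv.refl _)).trans finFunctionFinEquiv
  have hd : ∀ v i, (v i : ZMod 3) = (vd (e v).1 (pos i) : ℕ) := fun v i => by
    obtain ⟨k, rfl⟩ := e.symm.surjective v
    rw [e.apply_symm_apply]
    show ((finFunctionFinEquiv.symm k) (posE i) : ZMod 3) = _
    apply Fin.ext
    rw [finFunctionFinEquiv_symm_apply_val]
    exact ((ZMod.val_natCast 3 _).trans (Nat.mod_mod _ _)).symm
  have hrow : ∀ v i, (toMat (wordP w) *ᵥ v) i = v i ↔ rowFix (wordP w) (e v).1 (pos i) = true := fun v i => by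
    rw [rowFix, beq_iff_eq]
    rw [show ∀ x y : ℕ, (x % 3 = y % 3 ↔ (x : ZMod 3) = y) from fun x y => (ZMod.natCast_eq_natCast_iff' x y 3).symm]
    push_cast
    simp only [Matrix.mulVec, dotProduct, Fintype.sum_sum_type, Fin.sum_univ_four, hd v, toMat, pos, Fin.val_zero,
      Fin.val_one, Fin.val_two, show ((3 : Fin 4) : ℕ) = 3 from rfl]
    ring_nf
  have hq : ∀ v, q8 v = 1 ↔
      ((vd (e v).1 0 * vd (e v).1 4 + (vd (e v).1 1 * vd (e v).1 5 + (vd (e v).1 2 * vd (e v).1 6 +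
        vd (e v).1 3 * vd (e v).1 7))) % 3 == 1) = true := fun v => by
    rw [beq_iff_eq, show (1 : ℕ) = 1 % 3 from rfl, ← ZMod.natCast_eq_natCast_iff']
    push_cast
    simp only [Triality.q_eq, hd v, pos, Fin.val_zero, Fin.val_one, Fin.val_two,
      show ((3 : Fin 4) : ℕ) = 3 from rfl]
    ring_nf
  have hall : ∀ v, mat (wordO w) *ᵥ v = v ↔ (List.range 8).all (rowFix (wordP w) (e v).1) = true := fun v => by
    rw [mat_wordO, List.all_eq_true, funext_iff]
    refine ⟨fun h i hi => ?_, fun h i => (hrow v i).2 (h _ (List.mem_range.2 (pos_lt i)))⟩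
    have := (hrow v (posE.symm ⟨i, List.mem_range.1 hi⟩)).1 (h _)
    have e2 : pos (posE.symm ⟨i, List.mem_range.1 hi⟩) = i :=
      congrArg Fin.val (posE.apply_symm_apply ⟨i, List.mem_range.1 hi⟩)
    rwa [e2] at this
  rw [fixN, Nat.card_congr (e.subtypeEquiv (q := fun j => fixB (wordP w) j.1 = true) fun v =>
    (show (mat (wordO w) *ᵥ v = v ∧ q8 v = 1) ↔ fixB (wordP w) (e v).1 = true by
    rw [fixB, Bool.and_eq_true, hall, hq, and_comm])), cntFix, Nat.card_eq_fintype_card, Fintype.card_subtype,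
    List.countP_eq_length_filter, ← Finset.card_map Fin.valEmbedding]
  have : (Finset.univ.filter fun j : Fin (3 ^ 8) => fixB (wordP w) j.1 = true).map Fin.valEmbedding =
      (Finset.range 6561).filter fun j => fixB (wordP w) j = true := by
    ext j
    simp only [Finset.mem_map, Finset.mem_filter, Finset.mem_univ, true_and, Fin.valEmbedding_apply,
      Finset.mem_range]
    exact ⟨fun ⟨x, hx, hj⟩ => hj ▸ ⟨lt_of_lt_of_eq x.2 (by norm_num), hx⟩,
      fun ⟨hj, hx⟩ => ⟨⟨j, lt_of_lt_of_eq hj (by norm_num)⟩, hx, rfl⟩⟩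
  rw [this, ← List.toFinset_range, ← List.toFinset_filter, List.toFinset_card_of_nodup (List.nodup_range.filter _)]

theorem fixN_repO (i : Fin 13) : fixN (repO i) = fixT.getD i 0 := by
  rw [repO, fixN_eq_cnt]
  have h : fixOK i = true := by
    fin_cases i
    exacts [fixOK_0, fixOK_1, fixOK_2, fixOK_3, fixOK_4, fixOK_5, fixOK_6, fixOK_7, fixOK_8, fixOK_9, fixOK_10,
      fixOK_11, fixOK_12]
  exact beq_iff_eq.1 h

theorem fix_of_rel {i j : Fin 13} (h : Rel (rP i) (rP j)) : fixT.getD i 0 = fixT.getD j 0 := by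
  rw [← fixN_repO, ← fixN_repO]
  obtain ⟨g, hg⟩ := h
  obtain ⟨k, rfl⟩ := mkO_surjective g
  have h3 : ∀ i, repO i ^ 3 ^ 1 = 1 := fun i => by rw [pow_one]; exact repO_cube i
  refine fixN_of_rel ⟨k, hg.imp (fun e => ?_) fun e => ?_⟩
  · exact lift_unique (k := 1) (l := 1) (by rw [conj_pow, h3, mul_one, mul_inv_cancel]) (h3 j)
      (by rw [map_mul, map_mul, map_inv]; exact e)
  · exact lift_unique (k := 1) (l := 1) (by rw [conj_pow, h3, mul_one, mul_inv_cancel])
      (by rw [inv_pow, h3, inv_one]) (by rw [map_mul, map_mul, map_inv, map_inv]; exact e)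

end Cfsg.Agent.O83
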