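import Mathlib

/-!
# Eight by eight matrices over the field with three elements, packed for kernel evaluation

A matrix is the list of its eight rows, a row a number written to the base 64 with digits below three.
-/

set_option autoImplicit false

namespace Cfsg.Agent.O83

open Matrix

/-- The index type of the eight-dimensional space. -/
abbrev Ix : Type := Fin 4 ⊕ Fin 4

/-- A row with the given entries modulo three. -/
def pack8 (a b c d e f g h : ℕ) : ℕ :=
  a % 3 + b % 3 * 64 + c % 3 * 4096 + d % 3 * 262144 + e % 3 * 16777216 + f % 3 * 1073741824 +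
    g % 3 * 68719476736 + h % 3 * 4398046511104

/-- An entry of a row. -/
def dg (r : ℕ) : ℕ → ℕ
  | 0 => r % 64
  | 1 => r / 64 % 64
  | 2 => r / 4096 % 64
  | 3 => r / 262144 % 64
  | 4 => r / 16777216 % 64
  | 5 => r / 1073741824 % 64
  | 6 => r / 68719476736 % 64
  | _ => r / 4398046511104 % 64

/-- A list of eight packed rows. -/
def mkM (f : ℕ → ℕ → ℕ) : List ℕ :=
  (List.range 8).map fun i => pack8 (f i 0) (f i 1) (f i 2) (f i 3) (f i 4) (f i 5) (f i 6) (f i 7)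

/-- Reduce the digits of a row. -/
def red (s : ℕ) : ℕ := pack8 (dg s 0) (dg s 1) (dg s 2) (dg s 3) (dg s 4) (dg s 5) (dg s 6) (dg s 7)

/-- One row of a product. -/
def rowMul (a b0 b1 b2 b3 b4 b5 b6 b7 : ℕ) : ℕ :=
  red (dg a 0 * b0 + dg a 1 * b1 + dg a 2 * b2 + dg a 3 * b3 + dg a 4 * b4 + dg a 5 * b5 + dg a 6 * b6 +
    dg a 7 * b7)

/-- The product. -/
def mulP : List ℕ → List ℕ → List ℕ
  | A, [b0, b1, b2, b3, b4, b5, b6, b7] => A.map fun a => rowMul a b0 b1 b2 b3 b4 b5 b6 b7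
  | _, _ => []

/-- The position of an index. -/
def pos : Ix → ℕ
  | .inl i => i
  | .inr i => 4 + i

/-- The matrix of a packed list. -/
def toMat (P : List ℕ) : Matrix Ix Ix (ZMod 3) := fun i j => ((dg (P.getD (pos i) 0) (pos j) : ℕ) : ZMod 3)

theorem pos_lt (i : Ix) : pos i < 8 := by
  rcases i with i | i <;> simp only [pos] <;> omega

theorem dg_pack8 (f : ℕ → ℕ) {j : ℕ} (hj : j < 8) :
    dg (pack8 (f 0) (f 1) (f 2) (f 3) (f 4) (f 5) (f 6) (f 7)) j = f j % 3 := by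
  have h0 := Nat.mod_lt (f 0) (by norm_num : 3 > 0)
  have h1 := Nat.mod_lt (f 1) (by norm_num : 3 > 0)
  have h2 := Nat.mod_lt (f 2) (by norm_num : 3 > 0)
  have h3 := Nat.mod_lt (f 3) (by norm_num : 3 > 0)
  have h4 := Nat.mod_lt (f 4) (by norm_num : 3 > 0)
  have h5 := Nat.mod_lt (f 5) (by norm_num : 3 > 0)
  have h6 := Nat.mod_lt (f 6) (by norm_num : 3 > 0)
  have h7 := Nat.mod_lt (f 7) (by norm_num : 3 > 0)
  interval_cases j <;> simp only [dg, pack8] <;> omega

theorem getD_mkM (f : ℕ → ℕ → ℕ) {i : ℕ} (hi : i < 8) :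
    (mkM f).getD i 0 = pack8 (f i 0) (f i 1) (f i 2) (f i 3) (f i 4) (f i 5) (f i 6) (f i 7) := by
  interval_cases i <;> simp only [mkM, List.range_succ, List.range_zero, List.nil_append, List.cons_append,
    List.map_cons, List.map_nil, List.getD_cons_succ, List.getD_cons_zero]

theorem toMat_mkM (f : ℕ → ℕ → ℕ) (i j : Ix) : toMat (mkM f) i j = (f (pos i) (pos j) : ZMod 3) := by
  rw [toMat, getD_mkM f (pos_lt i), dg_pack8 (f (pos i)) (pos_lt j), ZMod.natCast_mod]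

theorem mkM_congr {f g : ℕ → ℕ → ℕ} (h : ∀ i j : Ix, (f (pos i) (pos j) : ZMod 3) = g (pos i) (pos j)) :
    mkM f = mkM g := by
  have key : ∀ i < 8, ∀ j < 8, f i j % 3 = g i j % 3 := by
    intro i hi j hj
    have e : ∀ k < 8, ∃ x : Ix, pos x = k := by decide
    obtain ⟨x, rfl⟩ := e i hi
    obtain ⟨y, rfl⟩ := e j hj
    exact (ZMod.natCast_eq_natCast_iff' _ _ 3).1 (h x y)
  refine List.map_congr_left fun i hi => ?_
  have hi := List.mem_range.1 hi
  simp only [pack8, key i hi 0 (by norm_num), key i hi 1 (by norm_num), key i hi 2 (by norm_num),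
    key i hi 3 (by norm_num), key i hi 4 (by norm_num), key i hi 5 (by norm_num), key i hi 6 (by norm_num),
    key i hi 7 (by norm_num)]

theorem dg_comb (c : ℕ → ℕ) (hc : ∀ j, c j < 64) {j : ℕ} (hj : j < 8) :
    dg (c 0 + c 1 * 64 + c 2 * 4096 + c 3 * 262144 + c 4 * 16777216 + c 5 * 1073741824 +
      c 6 * 68719476736 + c 7 * 4398046511104) j = c j := by
  have h0 := hc 0; have h1 := hc 1; have h2 := hc 2; have h3 := hc 3
  have h4 := hc 4; have h5 := hc 5; have h6 := hc 6; have h7 := hc 7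
  interval_cases j <;> simp only [dg] <;> omega

theorem mulP_mkM (f g : ℕ → ℕ → ℕ) : mulP (mkM f) (mkM g) =
    mkM fun i j => ∑ k ∈ Finset.range 8, f i k % 3 * (g k j % 3) := by
  simp only [mkM, List.range_succ, List.range_zero, List.nil_append, List.cons_append, List.map_cons,
    List.map_nil, mulP]
  have hrow : ∀ i, rowMul (pack8 (f i 0) (f i 1) (f i 2) (f i 3) (f i 4) (f i 5) (f i 6) (f i 7))
      (pack8 (g 0 0) (g 0 1) (g 0 2) (g 0 3) (g 0 4) (g 0 5) (g 0 6) (g 0 7))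
      (pack8 (g 1 0) (g 1 1) (g 1 2) (g 1 3) (g 1 4) (g 1 5) (g 1 6) (g 1 7))
      (pack8 (g 2 0) (g 2 1) (g 2 2) (g 2 3) (g 2 4) (g 2 5) (g 2 6) (g 2 7))
      (pack8 (g 3 0) (g 3 1) (g 3 2) (g 3 3) (g 3 4) (g 3 5) (g 3 6) (g 3 7))
      (pack8 (g 4 0) (g 4 1) (g 4 2) (g 4 3) (g 4 4) (g 4 5) (g 4 6) (g 4 7))
      (pack8 (g 5 0) (g 5 1) (g 5 2) (g 5 3) (g 5 4) (g 5 5) (g 5 6) (g 5 7))
      (pack8 (g 6 0) (g 6 1) (g 6 2) (g 6 3) (g 6 4) (g 6 5) (g 6 6) (g 6 7))
      (pack8 (g 7 0) (g 7 1) (g 7 2) (g 7 3) (g 7 4) (g 7 5) (g 7 6) (g 7 7)) =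
      pack8 (∑ k ∈ Finset.range 8, f i k % 3 * (g k 0 % 3)) (∑ k ∈ Finset.range 8, f i k % 3 * (g k 1 % 3))
        (∑ k ∈ Finset.range 8, f i k % 3 * (g k 2 % 3)) (∑ k ∈ Finset.range 8, f i k % 3 * (g k 3 % 3))
        (∑ k ∈ Finset.range 8, f i k % 3 * (g k 4 % 3)) (∑ k ∈ Finset.range 8, f i k % 3 * (g k 5 % 3))
        (∑ k ∈ Finset.range 8, f i k % 3 * (g k 6 % 3)) (∑ k ∈ Finset.range 8, f i k % 3 * (g k 7 % 3)) := by
    intro i
    simp only [rowMul, dg_pack8 (f i) (show (0 : ℕ) < 8 by norm_num), dg_pack8 (f i) (show (1 : ℕ) < 8 by norm_num),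
      dg_pack8 (f i) (show (2 : ℕ) < 8 by norm_num), dg_pack8 (f i) (show (3 : ℕ) < 8 by norm_num),
      dg_pack8 (f i) (show (4 : ℕ) < 8 by norm_num), dg_pack8 (f i) (show (5 : ℕ) < 8 by norm_num),
      dg_pack8 (f i) (show (6 : ℕ) < 8 by norm_num), dg_pack8 (f i) (show (7 : ℕ) < 8 by norm_num)]
    set c : ℕ → ℕ := fun j => ∑ k ∈ Finset.range 8, f i k % 3 * (g k j % 3) with hcd
    have hc : ∀ j, c j < 64 := fun j => by
      have : c j ≤ ∑ _k ∈ Finset.range 8, 4 := Finset.sum_le_sum fun k _ => by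
        exact Nat.mul_le_mul (Nat.le_of_lt_succ (Nat.mod_lt (f i k) (by norm_num : 3 > 0)))
          (Nat.le_of_lt_succ (Nat.mod_lt (g k j) (by norm_num : 3 > 0)))
      simp at this
      omega
    rw [red]
    have hs : ∀ {S : ℕ}, S = c 0 + c 1 * 64 + c 2 * 4096 + c 3 * 262144 + c 4 * 16777216 + c 5 * 1073741824 +
        c 6 * 68719476736 + c 7 * 4398046511104 → ∀ j < 8, dg S j = c j := by
      rintro S rfl j hj
      exact dg_comb c hc hj
    rw [hs ?_ 0 (by norm_num), hs ?_ 1 (by norm_num), hs ?_ 2 (by norm_num), hs ?_ 3 (by norm_num),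
      hs ?_ 4 (by norm_num), hs ?_ 5 (by norm_num), hs ?_ 6 (by norm_num), hs ?_ 7 (by norm_num)]
    all_goals simp only [hcd, Finset.sum_range_succ, Finset.sum_range_zero, pack8]; ring
  simp only [hrow]

/-- The packed product is the product of matrices. -/
theorem toMat_mulP (f g : ℕ → ℕ → ℕ) : toMat (mulP (mkM f) (mkM g)) = toMat (mkM f) * toMat (mkM g) := by
  ext i j
  rw [mulP_mkM, toMat_mkM, Matrix.mul_apply]
  simp only [toMat_mkM, Fintype.sum_sum_type, Fin.sum_univ_four, Finset.sum_range_succ, Finset.sum_range_zero, pos]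
  push_cast [ZMod.natCast_mod]
  simp only [Fin.val_zero, Fin.val_one, Fin.val_two, show ((3 : Fin 4) : ℕ) = 3 from rfl]
  ring

/-- A packed matrix. -/
def IsP (P : List ℕ) : Prop := ∃ f, P = mkM f

/-- The test for packed matrices. -/
def wfP (P : List ℕ) : Bool := P == mkM fun i j => dg (P.getD i 0) j

theorem isP_of_wfP {P : List ℕ} (h : wfP P = true) : IsP P := ⟨_, beq_iff_eq.1 h⟩

theorem IsP.mul {P Q : List ℕ} (hP : IsP P) (hQ : IsP Q) : IsP (mulP P Q) := by
  obtain ⟨f, rfl⟩ := hP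
  obtain ⟨g, rfl⟩ := hQ
  exact ⟨_, mulP_mkM f g⟩

theorem IsP.toMat_mul {P Q : List ℕ} (hP : IsP P) (hQ : IsP Q) : toMat (mulP P Q) = toMat P * toMat Q := by
  obtain ⟨f, rfl⟩ := hP
  obtain ⟨g, rfl⟩ := hQ
  exact toMat_mulP f g

theorem IsP.ext {P Q : List ℕ} (hP : IsP P) (hQ : IsP Q) (h : toMat P = toMat Q) : P = Q := by
  obtain ⟨f, rfl⟩ := hP
  obtain ⟨g, rfl⟩ := hQ
  exact mkM_congr fun i j => by rw [← toMat_mkM, ← toMat_mkM, h]

/-- The identity. -/
def oneP : List ℕ := mkM fun i j => if i = j then 1 else 0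

theorem isP_oneP : IsP oneP := ⟨_, rfl⟩

theorem toMat_oneP : toMat oneP = 1 := by
  ext i j
  rw [oneP, toMat_mkM, Matrix.one_apply]
  have : (pos i = pos j) ↔ i = j := by revert i j; decide
  by_cases h : i = j
  · simp [h]
  · simp [h, mt this.1 h]

/-- The transpose. -/
def transP (P : List ℕ) : List ℕ := mkM fun i j => dg (P.getD j 0) i

theorem isP_transP (P : List ℕ) : IsP (transP P) := ⟨_, rfl⟩

theorem toMat_transP (P : List ℕ) : toMat (transP P) = (toMat P)ᵀ := by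
  ext i j
  rw [transP, toMat_mkM]
  rfl

/-- The matrix of the polar form. -/
def formP : List ℕ := mkM fun i j => if i = j + 4 ∨ j = i + 4 then 1 else 0

/-- The test for isometries. -/
def isoP (P : List ℕ) : Bool := mulP (transP P) (mulP formP P) == formP

theorem toMat_formP_apply (v w : Ix → ZMod 3) :
    v ⬝ᵥ (toMat formP *ᵥ w) = ∑ i, (v (.inl i) * w (.inr i) + v (.inr i) * w (.inl i)) := by
  simp [formP, dotProduct, Matrix.mulVec, toMat_mkM, Fintype.sum_sum_type, Fin.sum_univ_four, pos]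
  ring

theorem isoP_form {P : List ℕ} (hP : IsP P) (h : isoP P = true) :
    (toMat P)ᵀ * (toMat formP * toMat P) = toMat formP := by
  have hf : IsP formP := ⟨_, rfl⟩
  rw [← toMat_transP, ← hf.toMat_mul hP, ← (isP_transP P).toMat_mul (hf.mul hP), beq_iff_eq.1 h]

end Cfsg.Agent.O83
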