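import Cfsg.Agent.O83.Action

/-!
# The orbits of a group with automorphism group of shape POmega.S3 on the thirteen classes
-/

set_option autoImplicit false

namespace Cfsg.Agent.O83

/-- The six permutations. -/
def words6 : List (List (Fin 3)) := [[], [0], [1], [0, 1], [1, 0], [0, 1, 0]]

/-- The orbit representatives of the six permutations. -/
def orb7 : Fin 7 → Fin 13 := ![0, 1, 2, 3, 8, 9, 12]

/-- The permutation of a word. -/
noncomputable def wperm (n : Fin 6) : Equiv.Perm (Fin 13) := autPerm ((words6.getD n []).map gens3).prod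

theorem wperm_apply (n : Fin 6) (i : Fin 13) : wperm n i = (words6.getD n []).foldr gfun i := autPerm_word _ i

/-- The six permutations as a subgroup. -/
noncomputable def six : Subgroup (Equiv.Perm (Fin 13)) where
  carrier := Set.range wperm
  one_mem' := ⟨0, Equiv.ext fun i => (wperm_apply 0 i).trans rfl⟩
  mul_mem' := by
    rintro _ _ ⟨a, rfl⟩ ⟨b, rfl⟩
    have key : ∀ a b : Fin 6, ∃ c : Fin 6, ∀ i, (words6.getD c []).foldr gfun i =
        (words6.getD a []).foldr gfun ((words6.getD b []).foldr gfun i) := by decide +kernel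
    obtain ⟨c, hc⟩ := key a b
    exact ⟨c, Equiv.ext fun i => by rw [Equiv.Perm.mul_apply, wperm_apply, wperm_apply, wperm_apply, hc]⟩
  inv_mem' := by
    rintro _ ⟨a, rfl⟩
    have key : ∀ a : Fin 6, ∃ c : Fin 6, ∀ i, (words6.getD a []).foldr gfun ((words6.getD c []).foldr gfun i) = i := by
      decide +kernel
    obtain ⟨c, hc⟩ := key a
    exact ⟨c, eq_inv_of_mul_eq_one_right (Equiv.ext fun i => by
      rw [Equiv.Perm.mul_apply, wperm_apply, wperm_apply, hc, Equiv.Perm.one_apply])⟩

theorem card_six : Nat.card six = 6 := by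
  refine (Nat.card_range_of_injective fun a b e => ?_).trans (Nat.card_fin 6)
  have key : ∀ a b : Fin 6, (∀ i, (words6.getD a []).foldr gfun i = (words6.getD b []).foldr gfun i) → a = b := by
    decide +kernel
  exact key a b fun i => by rw [← wperm_apply, ← wperm_apply, e]

theorem six_le : six ≤ outPerm.range := by
  rintro _ ⟨a, rfl⟩
  exact ⟨QuotientGroup.mk' _ ((words6.getD a []).map gens3).prod, rfl⟩

theorem six_orbits : (∀ a b : Fin 7, (∃ s ∈ six, s (orb7 a) = orb7 b) → a = b) ∧
    ∀ i, ∃ a, ∃ s ∈ six, s (orb7 a) = i := by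
  constructor
  · rintro a b ⟨_, ⟨n, rfl⟩, h⟩
    rw [wperm_apply] at h
    have key : ∀ a b : Fin 7, ∀ n : Fin 6, (words6.getD n []).foldr gfun (orb7 a) = orb7 b → a = b := by
      decide +kernel
    exact key a b n h
  · intro i
    have key : ∀ i, ∃ a : Fin 7, ∃ n : Fin 6, (words6.getD n []).foldr gfun (orb7 a) = i := by decide +kernel
    obtain ⟨a, n, h⟩ := key i
    exact ⟨a, _, ⟨n, rfl⟩, (wperm_apply n _).trans h⟩

theorem outPerm_mk (α : MulAut P8) (i : Fin 13) : outPerm (QuotientGroup.mk' _ α) i = act α i := rfl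

theorem rel_map_act {α : MulAut P8} {y : P8} {i : Fin 13} (h : Rel y (rP i)) :
    Rel (α y) (rP (outPerm (QuotientGroup.mk' _ α) i)) := by
  rw [outPerm_mk]
  exact Rel.trans (Rel.map h α.toMonoidHom : Rel (α y) (α (rP i))) (act_spec α i)

attribute [local irreducible] six outPerm autPerm

theorem six_conj' {Q M : Type*} [Group Q] [Group M] (o : Q ≃* Equiv.Perm (Fin 4)) (f : Q →* M) (hf : Function.Injective f)
    (S : Subgroup M) (hS : S ≤ f.range) (h6 : Nat.card S = 6) (H : Subgroup Q) (hH : Nat.card H = 6) :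
    ∃ p : M, H.map f = S.map (MulAut.conj p).toMonoidHom := by
  have hmap : (S.comap f).map f = S := Subgroup.map_comap_eq_self hS
  have hK : Nat.card (S.comap f) = 6 := by
    rw [Nat.card_congr (Subgroup.equivMapOfInjective _ f hf).toEquiv, hmap, h6]
  have hc : ∀ J : Subgroup Q, Nat.card (J.map o.toMonoidHom) = Nat.card J := fun J =>
    (Nat.card_congr (Subgroup.equivMapOfInjective J o.toMonoidHom o.injective).toEquiv).symm
  obtain ⟨g, hg⟩ := S5515.six_conj ((S.comap f).map o.toMonoidHom) (H.map o.toMonoidHom)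
    ((hc _).trans hK) ((hc _).trans hH)
  have hr : H = (S.comap f).map (MulAut.conj (o.symm g)).toMonoidHom := by
    apply Subgroup.map_injective (f := o.toMonoidHom) o.injective
    rw [← hg]
    simp only [Subgroup.map_map]
    refine congrArg (fun φ : Q →* Equiv.Perm (Fin 4) => Subgroup.map φ (S.comap f)) (MonoidHom.ext fun x => ?_)
    simp
  refine ⟨f (o.symm g), ?_⟩
  conv_rhs => rw [← hmap]
  rw [hr, Subgroup.map_map, Subgroup.map_map]
  refine congrArg (fun φ : Q →* M => Subgroup.map φ (S.comap f)) (MonoidHom.ext fun x => ?_)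
  simp [map_mul, map_inv]

/-- A group of shape POmega.S3 acts on the classes as a conjugate of the six permutations. -/
theorem exists_action {G : Type*} [Group G] [Finite G] [hn : (Cfsg.generalizedFittingSubgroup G).Normal]
    (e : ↥(Cfsg.generalizedFittingSubgroup G) ≃* P8)
    (q : G ⧸ Cfsg.generalizedFittingSubgroup G ≃* Equiv.Perm (Fin 3)) :
    ∃ (p : Equiv.Perm (Fin 13)) (φ : G →* Equiv.Perm (Fin 13)), φ.range = six.map (MulAut.conj p).toMonoidHom ∧
      ∀ (x : G) (l : ↥(Cfsg.generalizedFittingSubgroup G)) (i : Fin 13), Rel (e l) (rP i) →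
        Rel (e (MulAut.conjNormal x l)) (rP (φ x i)) := by
  set ψ : G →* MulAut P8 := (MulAut.congr e).toMonoidHom.comp MulAut.conjNormal with hψ
  have hψapp : ∀ (x : G) (l : (Cfsg.generalizedFittingSubgroup G)), ψ x (e l) = e (MulAut.conjNormal x l) := fun x l => by
    simp [hψ, MulAut.congr]
  have hin : ∀ l : (Cfsg.generalizedFittingSubgroup G), ψ (l : G) = MulAut.conj (e l) := fun l => MulEquiv.ext fun y => by
    obtain ⟨m, rfl⟩ := e.surjective y
    rw [hψapp, MulAut.conj_apply, ← map_inv, ← map_mul, ← map_mul]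
    congr 1
  set π := (QuotientGroup.mk' (Cfsg.Inn P8)).comp ψ with hπ
  have hker : π.ker = (Cfsg.generalizedFittingSubgroup G) := by
    ext x
    rw [MonoidHom.mem_ker, hπ, MonoidHom.comp_apply, QuotientGroup.mk'_apply, QuotientGroup.eq_one_iff]
    constructor
    · rintro ⟨y, hy⟩
      obtain ⟨l, rfl⟩ := e.surjective y
      have h1 : ψ (x * (l : G)⁻¹) = 1 := by rw [map_mul, map_inv, hin, hy, mul_inv_cancel]
      have hC : x * (l : G)⁻¹ ∈ Subgroup.centralizer ((Cfsg.generalizedFittingSubgroup G) : Set G) := Subgroup.mem_centralizer_iff.2 fun m hm => by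
        have h2 := hψapp (x * (l : G)⁻¹) ⟨m, hm⟩
        rw [h1, MulAut.one_apply] at h2
        have h3 : x * (l : G)⁻¹ * m * (x * (l : G)⁻¹)⁻¹ = m := (congrArg Subtype.val (e.injective h2)).symm
        exact (mul_inv_eq_iff_eq_mul.1 h3).symm
      have := mul_mem (Agent.Layer.centralizer_generalizedFitting_le hC) l.2
      rwa [inv_mul_cancel_right] at this
    · intro hx
      exact ⟨e ⟨x, hx⟩, (hin ⟨x, hx⟩).symm⟩
  obtain ⟨o⟩ : Nonempty (Cfsg.Out P8 ≃* Equiv.Perm (Fin 4)) := S5515.out_iso
  have h6 : Nat.card π.range = 6 := by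
    rw [← Subgroup.index_ker, hker, Subgroup.index_eq_card, Nat.card_congr q.toEquiv, Nat.card_eq_fintype_card,
      Fintype.card_perm, Fintype.card_fin]
    rfl
  obtain ⟨p, hp⟩ := six_conj' o outPerm outPerm_injective six six_le card_six π.range h6
  refine ⟨p, outPerm.comp π, ?_, fun x l i h => ?_⟩
  · rw [MonoidHom.range_comp, hp]
  · rw [← hψapp]
    exact rel_map_act (α := ψ x) h

end Cfsg.Agent.O83
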